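import Mathlib.RingTheory.AdjoinRoot
import Mathlib.RingTheory.Localization.Away.Basic
import Mathlib.RingTheory.Polynomial.Content

/-! The algebra of an `N`-th root of `u * f ^ α`, and the lattice `t^i f^(-⌊iα/N⌋)`. -/

set_option autoImplicit false
universe u
open Polynomial

namespace Groth.Agent.CyclicCover

variable {B : Type u} [CommRing B] (N : ℕ) (u : Bˣ) (α : ℕ) (f : B)

/-- the defining polynomial -/
noncomputable abbrev g : B[X] := X ^ N - C ((u : B) * f ^ α)

/-- `B[t]/(t^N - u f^α)` -/
abbrev A' := AdjoinRoot (g N u α f)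

/-- its localisation at `f` -/
abbrev K := Localization.Away (algebraMap B (A' N u α f) f)

/-- the image of `t` -/
noncomputable def τ : K N u α f := algebraMap (A' N u α f) _ (AdjoinRoot.root (g N u α f))

/-- the image of `f` -/
noncomputable def F : K N u α f := algebraMap B _ f

/-- the inverse of `f` -/
noncomputable def s : K N u α f :=
  IsLocalization.Away.invSelf (S := K N u α f) (algebraMap B (A' N u α f) f)

/-- the basis elements -/
noncomputable def e (i : ℕ) : K N u α f := τ N u α f ^ i * s N u α f ^ (i * α / N)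

theorem F_mul_s : F N u α f * s N u α f = 1 := by
  rw [F, IsScalarTower.algebraMap_apply B (A' N u α f) (K N u α f)]
  exact IsLocalization.Away.mul_invSelf _

theorem F_pow_mul_s_pow (m : ℕ) : F N u α f ^ m * s N u α f ^ m = 1 := by
  rw [← mul_pow, F_mul_s, one_pow]

theorem tau_pow : τ N u α f ^ N = algebraMap B _ (u : B) * F N u α f ^ α := by
  have h : AdjoinRoot.root (g N u α f) ^ N = algebraMap B (A' N u α f) ((u : B) * f ^ α) := by
    have h0 := AdjoinRoot.mk_self (f := g N u α f)
    rw [← sub_eq_zero, AdjoinRoot.algebraMap_eq]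
    refine Eq.trans ?_ h0
    simp [g, map_sub, map_pow]
  rw [τ, ← map_pow, h, ← IsScalarTower.algebraMap_apply, F, map_mul, map_pow]

theorem e_zero : e N u α f 0 = 1 := by simp [e]

theorem e_add_N (hN : 0 < N) (i : ℕ) : e N u α f (i + N) = algebraMap B _ (u : B) * e N u α f i := by
  have h : (i + N) * α / N = i * α / N + α := by
    rw [add_mul, Nat.add_mul_div_left _ _ hN]
  rw [e, h, pow_add, pow_add, tau_pow, e]
  linear_combination (algebraMap B _ (u : B) * τ N u α f ^ i * s N u α f ^ (i * α / N)) *
    F_pow_mul_s_pow N u α f α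

theorem e_add_mul_N (hN : 0 < N) (i a : ℕ) :
    e N u α f (i + a * N) = algebraMap B _ ((u : B) ^ a) * e N u α f i := by
  induction a with
  | zero => simp
  | succ a ih => rw [Nat.succ_mul, ← add_assoc, e_add_N N u α f hN, ih, pow_succ, map_mul]; ring

theorem e_mul (hN : 0 < N) (i j : ℕ) :
    e N u α f i * e N u α f j =
      F N u α f ^ ((i * α % N + j * α % N) / N) * e N u α f (i + j) := by
  have h : (i + j) * α / N = (i * α % N + j * α % N) / N + (i * α / N + j * α / N) := by
    have h1 := Nat.div_add_mod (i * α) N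
    have h2 := Nat.div_add_mod (j * α) N
    have h3 : (i + j) * α = (i * α % N + j * α % N) + N * (i * α / N + j * α / N) := by
      rw [add_mul, mul_add]; omega
    rw [h3, Nat.add_mul_div_left _ _ hN]
  simp only [e, h, pow_add]
  linear_combination -(τ N u α f ^ i * τ N u α f ^ j * s N u α f ^ (i * α / N) * s N u α f ^ (j * α / N)) *
    F_pow_mul_s_pow N u α f ((i * α % N + j * α % N) / N)

theorem e_pow (m i : ℕ) (hN : 0 < N) :
    ∃ c : ℕ, e N u α f i ^ m = F N u α f ^ c * e N u α f (m * i) ∧ c * N + m * i * α % N = m * (i * α % N) := by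
  induction m with
  | zero => exact ⟨0, by simp [e_zero], by simp⟩
  | succ m ih =>
    obtain ⟨c, hc, hc'⟩ := ih
    refine ⟨c + (m * i * α % N + i * α % N) / N, ?_, ?_⟩
    · rw [pow_succ, hc, mul_assoc, e_mul N u α f hN, ← mul_assoc, ← pow_add, Nat.succ_mul]
    · have h1 := Nat.div_add_mod (m * i * α % N + i * α % N) N
      rw [← Nat.add_mod, ← add_mul, ← Nat.succ_mul, mul_comm N] at h1
      rw [Nat.add_mul c, Nat.add_mul m 1 (i * α % N), one_mul, ← hc']
      change _ + (m + 1) * i * α % N = _ at h1
      omega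

theorem g_monic (hN : 0 < N) : (g N u α f).Monic := monic_X_pow_sub_C _ hN.ne'

theorem g_natDegree [Nontrivial B] : (g N u α f).natDegree = N := natDegree_X_pow_sub_C

variable [IsDomain B]

theorem mem_nonZeroDivisors_of_ne_zero (hN : 0 < N) {c : B} (hc : c ≠ 0) :
    algebraMap B (A' N u α f) c ∈ nonZeroDivisors (A' N u α f) := by
  have := (g_monic N u α f hN).free_adjoinRoot
  rw [mem_nonZeroDivisors_iff]
  have h : ∀ x : A' N u α f, algebraMap B (A' N u α f) c * x = 0 → x = 0 := fun x hx => by
    rw [← Algebra.smul_def] at hx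
    exact (smul_eq_zero.1 hx).resolve_left hc
  exact ⟨h, fun x hx => h x (by rwa [mul_comm])⟩

theorem algebraMap_injective (hN : 0 < N) (hf : f ≠ 0) :
    Function.Injective (algebraMap (A' N u α f) (K N u α f)) :=
  IsLocalization.injective _ (Submonoid.powers_le.2 (mem_nonZeroDivisors_of_ne_zero N u α f hN hf))

theorem eq_zero_of_sum_eq_zero (hN : 0 < N) (hf : f ≠ 0) (b : Fin N → B)
    (h : ∑ i : Fin N, algebraMap B (K N u α f) (b i) * e N u α f i = 0) (i : Fin N) : b i = 0 := by
  classical
  let M := N * α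
  have hM : ∀ i : Fin N, (i : ℕ) * α / N ≤ M := fun i =>
    (Nat.div_le_self _ _).trans (Nat.mul_le_mul_right _ i.2.le)
  let c : Fin N → B := fun i => b i * f ^ (M - (i : ℕ) * α / N)
  have hterm : ∀ i : Fin N, F N u α f ^ M * (algebraMap B (K N u α f) (b i) * e N u α f i) =
      algebraMap (A' N u α f) _ (algebraMap B _ (c i) * AdjoinRoot.root (g N u α f) ^ (i : ℕ)) := fun i => by
    have hF : F N u α f ^ M = F N u α f ^ (M - (i : ℕ) * α / N) * F N u α f ^ ((i : ℕ) * α / N) := by
      rw [← pow_add, Nat.sub_add_cancel (hM i)]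
    rw [map_mul, map_pow, ← IsScalarTower.algebraMap_apply, hF, e, map_mul, map_pow]
    change _ = algebraMap B (K N u α f) (b i) * F N u α f ^ _ * τ N u α f ^ (i : ℕ)
    linear_combination (algebraMap B (K N u α f) (b i) * F N u α f ^ (M - (i : ℕ) * α / N) * τ N u α f ^ (i : ℕ)) *
      F_pow_mul_s_pow N u α f ((i : ℕ) * α / N)
  have h0 : ∑ i : Fin N, algebraMap B (A' N u α f) (c i) * AdjoinRoot.root (g N u α f) ^ (i : ℕ) = 0 := by
    apply algebraMap_injective N u α f hN hf
    rw [map_sum, map_zero]
    simp only [← hterm]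
    rw [← Finset.mul_sum, h, mul_zero]
  have hli := (AdjoinRoot.powerBasis' (g_monic N u α f hN)).basis.linearIndependent
  have hd : (AdjoinRoot.powerBasis' (g_monic N u α f hN)).dim = N := g_natDegree N u α f
  have hli' := hli.comp (Fin.cast hd.symm) (Fin.cast_injective _)
  have hci := Fintype.linearIndependent_iff.1 hli' c (by
    rw [← h0]
    refine Finset.sum_congr rfl fun i _ => ?_
    rw [Algebra.smul_def, Function.comp_apply, PowerBasis.coe_basis]
    rfl) i
  exact (mul_eq_zero.1 hci).resolve_right (pow_ne_zero _ hf)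

end Groth.Agent.CyclicCover
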