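import Mathlib.RingTheory.Localization.AtPrime.Basic
import Mathlib.RingTheory.Localization.LocalizationLocalization
import Mathlib.RingTheory.RingHom.Surjective
import Groth.Agent.S0560
import Groth.Agent.DepthLib.RegularNormal

/-! Regularity and integral closedness checked along a principal locus and on its complement. -/

set_option autoImplicit false
universe u

namespace Groth.Agent.CyclicCover

variable {A : Type u} [CommRing A]

/-- regular at a prime containing a nonzerodivisor with regular quotient -/
theorem regular_atPrime_of_quotient {R : Type u} [CommRing R] [IsNoetherianRing A] (φ : A →+* R)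
    (hφ : Function.Surjective φ) (π : A) (hker : RingHom.ker φ = Ideal.span {π})
    (hπ : π ∈ nonZeroDivisors A)
    (hR : ∀ (q : Ideal R) [q.IsPrime], IsRegularLocalRing (Localization.AtPrime q))
    (Q : Ideal A) [Q.IsPrime] (hQ : π ∈ Q) : IsRegularLocalRing (Localization.AtPrime Q) := by
  have hle : RingHom.ker φ ≤ Q := hker ▸ (Ideal.span_singleton_le_iff_mem _).2 hQ
  have : (Q.map φ).IsPrime := Ideal.map_isPrime_of_surjective hφ hle
  have hc : Q = (Q.map φ).comap φ := by
    rw [Ideal.comap_map_of_surjective φ hφ, ← RingHom.ker_eq_comap_bot, sup_eq_left.2 hle]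
  let g := Localization.localRingHom Q (Q.map φ) φ hc
  have hg : Function.Surjective g := fun y => by
    obtain ⟨r, ⟨s, hs⟩, rfl⟩ := IsLocalization.exists_mk'_eq (Q.map φ).primeCompl y
    obtain ⟨r, rfl⟩ := hφ r
    obtain ⟨s, rfl⟩ := hφ s
    have hs' : s ∈ Q.primeCompl := fun h => hs (Ideal.mem_map_of_mem φ h)
    exact ⟨IsLocalization.mk' _ r ⟨s, hs'⟩, Localization.localRingHom_mk' _ _ _ _ _ _⟩
  let p := algebraMap A (Localization.AtPrime Q) π
  have hgk : RingHom.ker g = Ideal.span {p} := by
    refine le_antisymm (fun x hx => ?_) ((Ideal.span_singleton_le_iff_mem _).2 ?_)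
    · obtain ⟨r, ⟨s, hs⟩, rfl⟩ := IsLocalization.exists_mk'_eq Q.primeCompl x
      rw [RingHom.mem_ker, Localization.localRingHom_mk', IsLocalization.mk'_eq_zero_iff] at hx
      obtain ⟨⟨t, ht⟩, htr⟩ := hx
      obtain ⟨t, rfl⟩ := hφ t
      have ht' : t ∈ Q.primeCompl := fun h => ht (Ideal.mem_map_of_mem φ h)
      have : t * r ∈ Ideal.span {π} := hker ▸ (by rw [RingHom.mem_ker, map_mul]; exact htr)
      obtain ⟨y, hy⟩ := Ideal.mem_span_singleton.1 this
      rw [Ideal.mem_span_singleton]
      refine ⟨IsLocalization.mk' _ y (⟨t, ht'⟩ * ⟨s, hs⟩ : Q.primeCompl), ?_⟩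
      change _ = algebraMap A (Localization.AtPrime Q) π * _
      rw [IsLocalization.mul_mk'_eq_mk'_of_mul, ← hy]
      exact IsLocalization.mk'_eq_of_eq (by simp only [Submonoid.coe_mul]; ring)
    · rw [RingHom.mem_ker, Localization.localRingHom_to_map]
      have : φ π = 0 := RingHom.mem_ker.1 (hker ▸ Ideal.mem_span_singleton_self π)
      rw [this, map_zero]
  have : IsRegularLocalRing (Localization.AtPrime (Q.map φ)) := hR _
  have : IsRegularLocalRing (Localization.AtPrime Q ⧸ Ideal.span {p}) :=
    IsRegularLocalRing.of_ringEquiv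
      ((Ideal.quotEquivOfEq hgk.symm).trans (RingHom.quotientKerEquivOfSurjective hg)).symm
  exact Groth.Agent.S0560.result _ p ((IsLocalization.AtPrime.to_map_mem_maximal_iff _ Q π).2 hQ)
    (IsLocalization.map_nonZeroDivisors_le Q.primeCompl _ ⟨π, hπ, rfl⟩)

/-- regular at a prime away from the principal locus -/
theorem regular_atPrime_of_away {K : Type u} [CommRing K] [Algebra A K] (a : A) [IsLocalization.Away a K]
    (hK : ∀ (P : Ideal K) [P.IsPrime], IsRegularLocalRing (Localization.AtPrime P))
    (Q : Ideal A) [hQ : Q.IsPrime] (haQ : a ∉ Q) : IsRegularLocalRing (Localization.AtPrime Q) := by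
  have hd : Disjoint (Submonoid.powers a : Set A) (Q : Set A) := by
    rw [Set.disjoint_left]
    rintro _ ⟨n, rfl⟩ h
    exact haQ (hQ.mem_of_pow_mem n h)
  have := IsLocalization.isPrime_of_isPrime_disjoint (Submonoid.powers a) K Q hQ hd
  have hc := IsLocalization.comap_map_of_isPrime_disjoint (Submonoid.powers a) K ‹_› hd
  let P := Q.map (algebraMap A K)
  have : IsLocalization.AtPrime (Localization.AtPrime P) (P.comap (algebraMap A K)) :=
    IsLocalization.isLocalization_isLocalization_atPrime_isLocalization (Submonoid.powers a) _ _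
  have := hK P
  have h2 : IsRegularLocalRing (Localization.AtPrime (P.comap (algebraMap A K))) :=
    IsRegularLocalRing.of_ringEquiv (IsLocalization.algEquiv (P.comap (algebraMap A K)).primeCompl
      (Localization.AtPrime P) (Localization.AtPrime (P.comap (algebraMap A K)))).toRingEquiv
  have key : ∀ (Q' : Ideal A) [Q'.IsPrime], Q' = Q → IsRegularLocalRing (Localization.AtPrime Q') →
      IsRegularLocalRing (Localization.AtPrime Q) := fun Q' _ e h => by subst e; exact h
  exact key _ hc h2

/-- integral closedness of a ring all of whose local rings are regular, in a localization -/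
theorem mem_range_of_isIntegral {K : Type u} [CommRing K] [Algebra A K] (a : A) [IsLocalization.Away a K]
    (ha : a ∈ nonZeroDivisors A)
    (hA : ∀ (Q : Ideal A) [Q.IsPrime], IsRegularLocalRing (Localization.AtPrime Q))
    (z : K) (hz : IsIntegral A z) : z ∈ Set.range (algebraMap A K) := by
  have hinj : Function.Injective (algebraMap A K) :=
    IsLocalization.injective K (Submonoid.powers_le.2 ha)
  let M := LinearMap.range (Algebra.linearMap A K)
  let I : Ideal A := M.comap (LinearMap.toSpanSingleton A K z)
  by_cases hI : I = ⊤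
  · have h1 : (1 : A) ∈ I := hI ▸ Submodule.mem_top
    simpa [I, M] using h1
  exfalso
  obtain ⟨Q, hQ, hIQ⟩ := Ideal.exists_le_maximal I hI
  have := hA Q
  have := Groth.Agent.DepthLib.isDomain_of_isRegularLocalRing (Localization.AtPrime Q)
  have := Groth.Agent.DepthLib.isIntegrallyClosed_of_isRegularLocalRing (Localization.AtPrime Q)
  let F := FractionRing (Localization.AtPrime Q)
  let j : A →+* F := (algebraMap _ F).comp (algebraMap A (Localization.AtPrime Q))
  have hja : IsUnit (j a) := isUnit_iff_ne_zero.2 <| (map_ne_zero_iff _ (IsFractionRing.injective (Localization.AtPrime Q) F)).2 <|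
    nonZeroDivisors.ne_zero (IsLocalization.map_nonZeroDivisors_le Q.primeCompl (Localization.AtPrime Q) ⟨a, ha, rfl⟩)
  let ψ : K →+* F := IsLocalization.Away.lift a hja
  have hcomp : (algebraMap (Localization.AtPrime Q) F).comp (algebraMap A (Localization.AtPrime Q)) =
      ψ.comp (algebraMap A K) := (IsLocalization.Away.lift_comp a hja).symm
  obtain ⟨x, hx⟩ := IsIntegrallyClosed.algebraMap_eq_of_integral (hz.map_of_comp_eq _ ψ hcomp)
  obtain ⟨r, ⟨s, hs⟩, rfl⟩ := IsLocalization.exists_mk'_eq Q.primeCompl x
  obtain ⟨⟨b, ⟨_, n, rfl⟩⟩, hb⟩ := IsLocalization.surj (Submonoid.powers a) (algebraMap A K s * z - algebraMap A K r)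
  have hb0 : algebraMap A (Localization.AtPrime Q) b = 0 := by
    apply IsFractionRing.injective (Localization.AtPrime Q) F
    have h := congrArg ψ hb
    have hc : ∀ y, ψ (algebraMap A K y) = j y := fun y => (RingHom.congr_fun hcomp y).symm
    simp only [map_mul, map_sub, hc, ← hx] at h
    simp only [j, RingHom.comp_apply] at h
    rw [map_zero, ← h, ← map_mul, show algebraMap A (Localization.AtPrime Q) s * IsLocalization.mk' (Localization.AtPrime Q) r ⟨s, hs⟩ = algebraMap A _ r from IsLocalization.mk'_spec' _ r ⟨s, hs⟩, sub_self, zero_mul]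
  obtain ⟨⟨t, ht⟩, htb⟩ := (IsLocalization.map_eq_zero_iff Q.primeCompl _ b).1 hb0
  refine Submonoid.mul_mem Q.primeCompl ht hs (hIQ ?_)
  change (t * s) • z ∈ M
  refine ⟨t * r, ?_⟩
  have h := congrArg (algebraMap A K) htb
  rw [map_mul, map_zero, ← hb, ← mul_assoc, mul_comm, ← mul_assoc] at h
  have hu := IsLocalization.map_units K (⟨a ^ n, n, rfl⟩ : Submonoid.powers a)
  have h0 := (hu.mul_right_eq_zero).1 (by rw [mul_assoc] at h; exact h)
  rw [Algebra.linearMap_apply, Algebra.smul_def, map_mul, map_mul]
  linear_combination -h0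

end Groth.Agent.CyclicCover
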