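import Groth.Agent.CyclicCover.Basic
import Mathlib.RingTheory.Etale.StandardEtale
import Mathlib.RingTheory.RingHom.Etale

/-! The root algebra is etale where the radicand is a unit. -/

set_option autoImplicit false
universe u
open Polynomial

namespace Groth.Agent.CyclicCover

theorem etale_root {R : Type u} [CommRing R] (v : Rˣ) (d : ℕ) (hd : IsUnit (d : R)) (hd0 : d ≠ 0) :
    Algebra.Etale R (AdjoinRoot (X ^ d - C (v : R))) := by
  let P : StandardEtalePair R :=
    { f := X ^ d - C (v : R)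
      monic_f := monic_X_pow_sub_C _ hd0
      g := 1
      cond := by
        refine ⟨X * C (↑(hd.unit * v)⁻¹ : R), -C (↑v⁻¹ : R), 0, ?_⟩
        have hX : (X : R[X]) ^ (d - 1) * X = X ^ d := by
          rw [← pow_succ, Nat.sub_add_cancel (Nat.one_le_iff_ne_zero.2 hd0)]
        have h1 : (d : R) * (↑(hd.unit * v)⁻¹ : R) = (↑v⁻¹ : R) := by
          rw [mul_inv_rev, Units.val_mul, mul_comm (↑v⁻¹ : R), ← mul_assoc, IsUnit.mul_val_inv, one_mul]
        have h2 : C (v : R) * C (↑v⁻¹ : R) = 1 := by rw [← C_mul, Units.mul_inv, C_1]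
        have h3 : C (d : R) * C (↑(hd.unit * v)⁻¹ : R) = C (↑v⁻¹ : R) := by rw [← C_mul, h1]
        rw [derivative_sub, derivative_C, sub_zero, derivative_X_pow, pow_zero]
        linear_combination (C (d : R) * C (↑(hd.unit * v)⁻¹ : R)) * hX + (X ^ d) * h3 + h2 }
  have : Algebra.Etale R (Localization.Away (AdjoinRoot.mk P.f P.g)) := .of_equiv P.equivAwayAdjoinRoot
  have : IsLocalization.Away (1 : AdjoinRoot P.f) (Localization.Away (AdjoinRoot.mk P.f P.g)) := by
    rw [show AdjoinRoot.mk P.f P.g = 1 from map_one _]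
    infer_instance
  exact .of_equiv ((IsLocalization.atOne (AdjoinRoot P.f)
    (Localization.Away (AdjoinRoot.mk P.f P.g))).restrictScalars R).symm

variable {B : Type u} [CommRing B] (N : ℕ) (u : Bˣ) (α : ℕ) (f : B)

theorem etale_K (hN : 0 < N) (hNB : IsUnit (N : B)) : Algebra.Etale B (K N u α f) := by
  let P : StandardEtalePair B :=
    { f := g N u α f
      monic_f := g_monic N u α f hN
      g := C f
      cond := by
        refine ⟨X * C (↑(hNB.unit * u)⁻¹ : B), -C (↑u⁻¹ : B), α, ?_⟩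
        have hX : (X : B[X]) ^ (N - 1) * X = X ^ N := by rw [← pow_succ, Nat.sub_add_cancel hN]
        have h1 : (N : B) * (↑(hNB.unit * u)⁻¹ : B) = (↑u⁻¹ : B) := by
          rw [mul_inv_rev, Units.val_mul, mul_comm (↑u⁻¹ : B), ← mul_assoc, IsUnit.mul_val_inv, one_mul]
        have h2 : C (u : B) * C (↑u⁻¹ : B) = 1 := by rw [← C_mul, Units.mul_inv, C_1]
        have h3 : C (N : B) * C (↑(hNB.unit * u)⁻¹ : B) = C (↑u⁻¹ : B) := by rw [← C_mul, h1]
        rw [g, derivative_sub, derivative_C, sub_zero, derivative_X_pow, C_mul, C_pow]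
        linear_combination (C (N : B) * C (↑(hNB.unit * u)⁻¹ : B)) * hX + (X ^ N) * h3 + (C f ^ α) * h2 }
  exact .of_equiv (P.equivAwayAdjoinRoot)

end Groth.Agent.CyclicCover
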