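import Groth.Agent.CyclicCover.Basic
import Mathlib.RingTheory.Finiteness.Basic
import Mathlib.LinearAlgebra.Basis.Submodule
import Mathlib.Algebra.Algebra.Bilinear
import Mathlib.Data.Int.GCD

/-! The lattice spanned by the `t^i f^(-⌊iα/N⌋)` is a free algebra with a regular quotient by a uniformiser. -/

set_option autoImplicit false
universe u
open Polynomial

namespace Groth.Agent.CyclicCover

variable {B : Type u} [CommRing B] [IsDomain B] (N : ℕ) (u : Bˣ) (α : ℕ) (f : B)

/-- the normalised algebra -/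
noncomputable def cover : Subalgebra B (K N u α f) :=
  Algebra.adjoin B (Set.range fun i : Fin N => e N u α f i)

theorem e_mem_span (hN : 0 < N) (i : ℕ) :
    e N u α f i ∈ Submodule.span B (Set.range fun i : Fin N => e N u α f i) := by
  rw [← Nat.mod_add_div i N, mul_comm N, e_add_mul_N N u α f hN, ← Algebra.smul_def]
  exact Submodule.smul_mem _ _ (Submodule.subset_span ⟨⟨i % N, Nat.mod_lt _ hN⟩, rfl⟩)

theorem cover_toSubmodule (hN : 0 < N) :
    Subalgebra.toSubmodule (cover N u α f) = Submodule.span B (Set.range fun i : Fin N => e N u α f i) := by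
  refine le_antisymm ?_ (Submodule.span_le.2 Algebra.subset_adjoin)
  let S := (Submodule.span B (Set.range fun i : Fin N => e N u α f i)).toSubalgebra
    (by rw [← e_zero N u α f]; exact e_mem_span N u α f hN 0) (fun x y hx hy => by
      induction hx, hy using Submodule.span_induction₂ with
      | mem_mem x y hx hy =>
        obtain ⟨i, rfl⟩ := hx
        obtain ⟨j, rfl⟩ := hy
        rw [e_mul N u α f hN, F, ← map_pow, ← Algebra.smul_def]
        exact Submodule.smul_mem _ _ (e_mem_span N u α f hN _)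
      | zero_left y _ => simp
      | zero_right x _ => simp
      | add_left x y z _ _ _ hx hy => rw [add_mul]; exact add_mem hx hy
      | add_right x y z _ _ _ hx hy => rw [mul_add]; exact add_mem hx hy
      | smul_left r x y _ _ hx => rw [smul_mul_assoc]; exact Submodule.smul_mem _ r hx
      | smul_right r x y _ _ hx => rw [mul_smul_comm]; exact Submodule.smul_mem _ r hx)
  intro x hx
  exact (Algebra.adjoin_le (S := S) Submodule.subset_span) hx

theorem e_mem (hN : 0 < N) (i : ℕ) : e N u α f i ∈ cover N u α f :=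
  (cover_toSubmodule N u α f hN).ge (e_mem_span N u α f hN i)

theorem finite_cover (hN : 0 < N) : Module.Finite B (cover N u α f) := by
  have : (Subalgebra.toSubmodule (cover N u α f)).FG := by
    rw [cover_toSubmodule N u α f hN]
    exact Submodule.fg_span (Set.finite_range _)
  exact Module.Finite.iff_fg.2 this

theorem algebraMap_A'_mem (hN : 0 < N) (a : A' N u α f) :
    algebraMap (A' N u α f) (K N u α f) a ∈ cover N u α f := by
  have hτ : τ N u α f ∈ cover N u α f := by
    have h : τ N u α f = e N u α f 1 * F N u α f ^ (1 * α / N) := by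
      rw [e, pow_one, mul_assoc, mul_comm (s N u α f ^ _), F_pow_mul_s_pow, mul_one]
    rw [h]
    exact mul_mem (e_mem N u α f hN 1) (pow_mem (Subalgebra.algebraMap_mem _ f) _)
  obtain ⟨p, rfl⟩ := AdjoinRoot.mk_surjective a
  rw [← AdjoinRoot.aeval_eq, ← Polynomial.aeval_algebraMap_apply, ← τ]
  exact (Algebra.adjoin_singleton_le hτ) (aeval_mem_adjoin_singleton B _)

section Basis

variable (hN : 0 < N) (hf : f ≠ 0)

/-- the element `e i` in the cover -/
noncomputable def E (i : ℕ) : cover N u α f := ⟨e N u α f i, e_mem N u α f hN i⟩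

/-- the basis of the cover -/
noncomputable def basis : Module.Basis (Fin N) B (cover N u α f) :=
  (Module.Basis.span (Fintype.linearIndependent_iff.2 fun b hb i =>
    eq_zero_of_sum_eq_zero N u α f hN hf b (by simpa [Algebra.smul_def] using hb) i)).map
    (LinearEquiv.ofEq _ _ (cover_toSubmodule N u α f hN).symm)

theorem basis_apply (i : Fin N) : basis N u α f hN hf i = E N u α f hN i := by
  apply Subtype.ext
  simp only [basis, E, Module.Basis.map_apply]
  rw [LinearEquiv.coe_ofEq_apply, Module.Basis.span_apply]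

theorem E_eq (i : ℕ) :
    E N u α f hN i = ((u : B) ^ (i / N)) • basis N u α f hN hf ⟨i % N, Nat.mod_lt _ hN⟩ := by
  apply Subtype.ext
  rw [basis_apply]
  show e N u α f i = (u : B) ^ (i / N) • e N u α f (i % N)
  conv_lhs => rw [← Nat.mod_add_div i N, mul_comm N, e_add_mul_N N u α f hN, ← Algebra.smul_def]

theorem E_mul (i j : ℕ) :
    E N u α f hN i * E N u α f hN j = (f ^ ((i * α % N + j * α % N) / N)) • E N u α f hN (i + j) := by
  apply Subtype.ext
  show e N u α f i * e N u α f j = f ^ _ • e N u α f (i + j)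
  rw [e_mul N u α f hN, Algebra.smul_def, map_pow]
  rfl

end Basis

theorem dvd_iff (hN : 0 < N) (i : ℕ) : i * α % N = 0 ↔ N / Nat.gcd α N ∣ i := by
  have hd : 0 < Nat.gcd α N := Nat.gcd_pos_of_pos_right _ hN
  obtain ⟨a, ha⟩ := Nat.gcd_dvd_left α N
  obtain ⟨n, hn⟩ := Nat.gcd_dvd_right α N
  have hc : Nat.Coprime (α / Nat.gcd α N) (N / Nat.gcd α N) := Nat.coprime_div_gcd_div_gcd hd
  have h1 : α / Nat.gcd α N = a := Nat.div_eq_of_eq_mul_right hd ha
  have h2 : N / Nat.gcd α N = n := Nat.div_eq_of_eq_mul_right hd hn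
  rw [h1, h2] at hc
  rw [h2, ← Nat.dvd_iff_mod_eq_zero]
  generalize Nat.gcd α N = d at *
  subst ha hn
  rw [show i * (d * a) = d * (i * a) by ring, Nat.mul_dvd_mul_iff_left hd]
  exact ⟨fun h => hc.symm.dvd_of_dvd_mul_right h, fun h => Dvd.dvd.mul_right h a⟩

theorem exists_uniformiser (hN : 0 < N) : ∃ i₀ k, i₀ * α % N + k * N = Nat.gcd α N := by
  rcases lt_or_eq_of_le (Nat.le_of_dvd hN (Nat.gcd_dvd_right α N)) with h | h
  · obtain ⟨m, -, hm⟩ := Nat.exists_mul_mod_eq_gcd h
    exact ⟨m, 0, by rw [mul_comm m, hm, zero_mul, add_zero]⟩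
  · exact ⟨0, 1, by simp [h]⟩

section Quot

variable (hN : 0 < N) (hf : f ≠ 0)

local notation "dd" => Nat.gcd α N

/-- the quotient ring `(B/f)[w]/(w^d - u)` -/
abbrev Quot := AdjoinRoot (X ^ Nat.gcd α N - C (Ideal.Quotient.mk (Ideal.span {f}) (u : B)) : (B ⧸ Ideal.span {f})[X])

/-- values of the quotient map -/
noncomputable def val (i : ℕ) : Quot N u α f :=
  if i * α % N = 0 then AdjoinRoot.root _ ^ (i / (N / Nat.gcd α N)) else 0

theorem smul_f (x : Quot N u α f) {n : ℕ} (hn : n ≠ 0) : (f ^ n) • x = 0 := by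
  obtain ⟨m, rfl⟩ := Nat.exists_eq_succ_of_ne_zero hn
  have hf0 : f • x = 0 := by
    rw [← algebraMap_smul (B ⧸ Ideal.span ({f} : Set B)) f x, Ideal.Quotient.algebraMap_eq,
      Ideal.Quotient.eq_zero_iff_mem.2 (Ideal.mem_span_singleton_self f), zero_smul]
  rw [pow_succ, mul_smul, hf0, smul_zero]

theorem root_pow : AdjoinRoot.root _ ^ dd = ((u : B) • (1 : Quot N u α f)) := by
  rw [← algebraMap_smul (B ⧸ Ideal.span ({f} : Set B)), ← Algebra.algebraMap_eq_smul_one, AdjoinRoot.algebraMap_eq, Ideal.Quotient.algebraMap_eq, ← sub_eq_zero]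
  refine Eq.trans ?_ (AdjoinRoot.mk_self (f := (X ^ dd - C (Ideal.Quotient.mk (Ideal.span {f}) (u : B)))))
  simp [map_sub, map_pow]

include hN in
theorem val_add_mul (i a : ℕ) : val N u α f (i + a * N) = ((u : B) ^ a) • val N u α f i := by
  have hd : 0 < dd := Nat.gcd_pos_of_pos_right _ hN
  have hN' : N / dd * dd = N := Nat.div_mul_cancel (Nat.gcd_dvd_right α N)
  have hmod : (i + a * N) * α % N = i * α % N := by
    rw [show (i + a * N) * α = i * α + N * (a * α) by ring, Nat.add_mul_mod_self_left]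
  have hpos : 0 < N / dd := Nat.div_pos (Nat.le_of_dvd hN (Nat.gcd_dvd_right α N)) hd
  have hdiv : (i + a * N) / (N / dd) = dd * a + i / (N / dd) := by
    rw [show a * N = N / dd * (dd * a) by rw [← mul_assoc, hN', mul_comm], Nat.add_mul_div_left _ _ hpos, add_comm]
  rw [val, val, hmod]
  split_ifs with h
  · rw [hdiv, pow_add, pow_mul, root_pow N u α f, smul_pow, one_pow, smul_mul_assoc, one_mul]
  · rw [smul_zero]

theorem val_zero : val N u α f 0 = 1 := by simp [val]

/-- the quotient map, linearly -/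
noncomputable def qlin : cover N u α f →ₗ[B] Quot N u α f :=
  (basis N u α f hN hf).constr B fun i => val N u α f i

theorem qlin_E (i : ℕ) : qlin N u α f hN hf (E N u α f hN i) = val N u α f i := by
  rw [E_eq N u α f hN hf, map_smul, qlin, Module.Basis.constr_basis]
  conv_rhs => rw [← Nat.mod_add_div i N, mul_comm N, val_add_mul N u α f hN]

theorem qlin_mul_E (i j : ℕ) :
    qlin N u α f hN hf (E N u α f hN i * E N u α f hN j) = val N u α f i * val N u α f j := by
  rw [E_mul, map_smul, qlin_E]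
  have hsum : (i + j) * α % N = (i * α % N + j * α % N) % N := by rw [add_mul, Nat.add_mod]
  rcases Nat.eq_zero_or_pos ((i * α % N + j * α % N) / N) with h | h
  · rw [h, pow_zero, one_smul]
    have hlt : i * α % N + j * α % N < N := by
      by_contra hle
      have := Nat.div_pos (not_lt.1 hle) hN
      omega
    rw [Nat.mod_eq_of_lt hlt] at hsum
    rw [val, val, val]
    by_cases hi : i * α % N = 0
    · by_cases hj : j * α % N = 0
      · rw [if_pos hi, if_pos hj, if_pos (by omega), ← pow_add,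
          Nat.add_div_of_dvd_right ((dvd_iff N α hN i).1 hi)]
      · rw [if_neg hj, if_neg (by omega), mul_zero]
    · rw [if_neg hi, if_neg (by omega), zero_mul]
  · rw [smul_f N u α f _ h.ne', val, val]
    by_cases hi : i * α % N = 0
    · exfalso
      rw [hi, zero_add, Nat.div_eq_of_lt (Nat.mod_lt _ hN)] at h
      omega
    · rw [if_neg hi, zero_mul]

/-- the quotient map -/
noncomputable def quot : cover N u α f →ₐ[B] Quot N u α f :=
  AlgHom.ofLinearMap (qlin N u α f hN hf)
    (by rw [show (1 : cover N u α f) = E N u α f hN 0 from Subtype.ext (e_zero N u α f).symm, qlin_E, val_zero])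
    (LinearMap.map_mul_iff (qlin N u α f hN hf) |>.2 <| (basis N u α f hN hf).ext fun i =>
      (basis N u α f hN hf).ext fun j => by
        simp only [LinearMap.compr₂_apply, LinearMap.compl₂_apply, LinearMap.comp_apply, LinearMap.mul_apply',
          basis_apply, qlin_mul_E, qlin_E])

theorem quot_E (i : ℕ) : quot N u α f hN hf (E N u α f hN i) = val N u α f i := qlin_E N u α f hN hf i

theorem quot_surjective : Function.Surjective (quot N u α f hN hf) := by
  have hd : 0 < dd := Nat.gcd_pos_of_pos_right _ hN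
  have hpos : 0 < N / dd := Nat.div_pos (Nat.le_of_dvd hN (Nat.gcd_dvd_right α N)) hd
  have hroot : quot N u α f hN hf (E N u α f hN (N / dd)) = AdjoinRoot.root _ := by
    rw [quot_E, val, if_pos ((dvd_iff N α hN _).2 dvd_rfl), Nat.div_self hpos, pow_one]
  intro y
  obtain ⟨p, rfl⟩ := AdjoinRoot.mk_surjective y
  induction p using Polynomial.induction_on' with
  | add p q hp hq =>
    obtain ⟨a, ha⟩ := hp
    obtain ⟨b, hb⟩ := hq
    exact ⟨a + b, by rw [map_add, map_add, ha, hb]⟩
  | monomial n r =>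
    obtain ⟨r, rfl⟩ := Ideal.Quotient.mk_surjective r
    refine ⟨r • E N u α f hN (N / dd) ^ n, ?_⟩
    rw [map_smul, map_pow, hroot, ← C_mul_X_pow_eq_monomial, map_mul, map_pow, AdjoinRoot.mk_X,
      AdjoinRoot.mk_C, Algebra.smul_def]
    rfl

/-- the uniformiser `f^k e i₀` -/
noncomputable def unif (i₀ k : ℕ) : cover N u α f := f ^ k • E N u α f hN i₀

theorem quot_unif (i₀ k : ℕ) (h : i₀ * α % N + k * N = dd) : quot N u α f hN hf (unif N u α f hN i₀ k) = 0 := by
  rw [unif, map_smul, quot_E]
  rcases Nat.eq_zero_or_pos k with hk | hk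
  · have hd : 0 < dd := Nat.gcd_pos_of_pos_right _ hN
    subst hk
    rw [zero_mul, add_zero] at h
    rw [val, if_neg (by omega), smul_zero]
  · exact smul_f N u α f _ hk.ne'

include hf in
theorem mem_span_unif (i₀ k : ℕ) (h : i₀ * α % N + k * N = dd) (j : ℕ) :
    ((if j * α % N = 0 then f else 1) • E N u α f hN j) ∈ Ideal.span {unif N u α f hN i₀ k} := by
  let m := j + i₀ * (N - 1)
  have hm : i₀ + m = j + i₀ * N := by
    obtain ⟨n, rfl⟩ : ∃ n, N = n + 1 := ⟨N - 1, by omega⟩
    simp only [m, Nat.add_sub_cancel, Nat.mul_add, mul_one]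
    omega
  have hrm : m * α % N + dd ≤ N := by
    have hlt := Nat.mod_lt (m * α) hN
    have h1 : dd ∣ m * α % N :=
      (Nat.dvd_mod_iff (Nat.gcd_dvd_right α N)).2 (Dvd.dvd.mul_left (Nat.gcd_dvd_left α N) m)
    obtain ⟨a, ha⟩ := h1
    obtain ⟨b, hb⟩ := Nat.gcd_dvd_right α N
    have hab : dd * a < dd * b := by rw [← ha, ← hb]; exact hlt
    have := Nat.lt_of_mul_lt_mul_left hab
    rw [ha]
    conv_rhs => rw [hb]
    calc dd * a + dd = dd * (a + 1) := by ring
      _ ≤ dd * b := Nat.mul_le_mul_left _ this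
  have hmod : (i₀ * α % N + m * α % N) % N = j * α % N := by
    rw [← Nat.add_mod, ← add_mul, hm, show (j + i₀ * N) * α = j * α + N * (i₀ * α) by ring,
      Nat.add_mul_mod_self_left]
  have hdm := Nat.div_add_mod (i₀ * α % N + m * α % N) N
  rw [hmod] at hdm
  let ε := k + (i₀ * α % N + m * α % N) / N
  have hε : N * ε + j * α % N ≤ N ∧ 0 < N * ε + j * α % N := by
    have hd : 0 < dd := Nat.gcd_pos_of_pos_right _ hN
    have : N * ε + j * α % N = dd + m * α % N := by
      rw [← h, show N * ε = k * N + N * ((i₀ * α % N + m * α % N) / N) by simp only [ε]; ring]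
      omega
    omega
  have hε' : f ^ ε = if j * α % N = 0 then f else 1 := by
    have hlt := Nat.mod_lt (j * α) hN
    split_ifs with hj
    · have h1 : ε = 1 := by
        rw [hj, add_zero] at hε
        have h2 : ε ≤ 1 := Nat.le_of_mul_le_mul_left (by simpa using hε.1) hN
        have h3 : ε ≠ 0 := fun h0 => by rw [h0, mul_zero] at hε; exact lt_irrefl _ hε.2
        exact le_antisymm h2 (Nat.one_le_iff_ne_zero.2 h3)
      rw [h1, pow_one]
    · have h1 : ε = 0 := by
        by_contra h0
        have h2 : N * 1 ≤ N * ε := Nat.mul_le_mul_left _ (Nat.one_le_iff_ne_zero.2 h0)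
        omega
      rw [h1, pow_zero]
  rw [Ideal.mem_span_singleton, ← hε']
  refine ⟨(↑(u⁻¹ ^ i₀) : B) • E N u α f hN m, ?_⟩
  have hE : E N u α f hN (i₀ + m) = (u : B) ^ i₀ • E N u α f hN j := by
    apply Subtype.ext
    show e N u α f (i₀ + m) = (u : B) ^ i₀ • e N u α f j
    rw [hm, e_add_mul_N N u α f hN, Algebra.smul_def]
  rw [unif, smul_mul_smul_comm, E_mul, hE, smul_smul, smul_smul]
  congr 1
  simp only [ε, pow_add, Units.val_pow_eq_pow_val]
  rw [show f ^ k * (↑u⁻¹ : B) ^ i₀ * f ^ ((i₀ * α % N + m * α % N) / N) * (u : B) ^ i₀ =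
    f ^ k * f ^ ((i₀ * α % N + m * α % N) / N) * ((↑u⁻¹ : B) * (u : B)) ^ i₀ by ring, Units.inv_mul, one_pow, mul_one]

theorem ker_quot (hfu : ¬ IsUnit f) (i₀ k : ℕ) (h : i₀ * α % N + k * N = dd) :
    RingHom.ker (quot N u α f hN hf).toRingHom = Ideal.span {unif N u α f hN i₀ k} := by
  classical
  refine le_antisymm (fun x hx => ?_)
    ((Ideal.span_singleton_le_iff_mem _).2 (quot_unif N u α f hN hf i₀ k h))
  have hd : 0 < dd := Nat.gcd_pos_of_pos_right _ hN
  have : Nontrivial (B ⧸ Ideal.span ({f} : Set B)) := Ideal.Quotient.nontrivial_iff.2 (fun hs => hfu (Ideal.span_singleton_eq_top.1 hs))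
  let b := basis N u α f hN hf
  let c := fun i => b.repr x i
  have hgm : (X ^ dd - C (Ideal.Quotient.mk (Ideal.span {f}) (u : B))).Monic := monic_X_pow_sub_C _ hd.ne'
  have hdim : (AdjoinRoot.powerBasis' hgm).dim = dd := natDegree_X_pow_sub_C
  have hpos : 0 < N / dd := Nat.div_pos (Nat.le_of_dvd hN (Nat.gcd_dvd_right α N)) hd
  let ι : {i : Fin N // (i : ℕ) * α % N = 0} → Fin (AdjoinRoot.powerBasis' hgm).dim := fun i =>
    ⟨(i.1 : ℕ) / (N / dd), by
      rw [hdim, Nat.div_lt_iff_lt_mul hpos, Nat.mul_div_cancel' (Nat.gcd_dvd_right α N)]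
      exact i.1.2⟩
  have hι : Function.Injective ι := fun i j hij => by
    have h1 := Nat.div_mul_cancel ((dvd_iff N α hN _).1 i.2)
    have h2 := Nat.div_mul_cancel ((dvd_iff N α hN _).1 j.2)
    have h3 : (i.1 : ℕ) / (N / dd) = (j.1 : ℕ) / (N / dd) := congrArg Fin.val hij
    exact Subtype.ext (Fin.ext (by rw [← h1, ← h2, h3]))
  have hli := (AdjoinRoot.powerBasis' hgm).basis.linearIndependent.comp ι hι
  have hsum : ∑ i : {i : Fin N // (i : ℕ) * α % N = 0},
      Ideal.Quotient.mk (Ideal.span {f}) (c i.1) • (AdjoinRoot.powerBasis' hgm).basis (ι i) = 0 := by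
    have h0 : quot N u α f hN hf x = 0 := hx
    rw [← b.sum_repr x, map_sum] at h0
    have h1 : ∀ i : Fin N, quot N u α f hN hf (b.repr x i • b i) =
        if (i : ℕ) * α % N = 0 then c i • AdjoinRoot.root _ ^ ((i : ℕ) / (N / dd)) else 0 := fun i => by
      rw [map_smul, basis_apply, quot_E, val]
      split <;> simp [c]
    simp only [h1, ← Finset.sum_filter] at h0
    rw [← h0, Finset.sum_subtype (p := fun i : Fin N => (i : ℕ) * α % N = 0) _ (fun i => by simp)]
    refine Finset.sum_congr rfl fun i _ => ?_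
    rw [PowerBasis.coe_basis]
    show algebraMap B (B ⧸ Ideal.span ({f} : Set B)) (c i.1) •
      ((AdjoinRoot.root (X ^ dd - C (Ideal.Quotient.mk (Ideal.span {f}) (u : B)))) ^ ((i.1 : ℕ) / (N / dd)) : Quot N u α f) = _
    rw [algebraMap_smul]
  have hc : ∀ i : Fin N, (i : ℕ) * α % N = 0 → f ∣ c i := fun i hi => by
    have := Fintype.linearIndependent_iff.1 hli _ hsum ⟨i, hi⟩
    exact Ideal.mem_span_singleton.1 (Ideal.Quotient.eq_zero_iff_mem.1 this)
  rw [← b.sum_repr x]
  refine Ideal.sum_mem _ fun i _ => ?_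
  rw [basis_apply]
  by_cases hi : (i : ℕ) * α % N = 0
  · obtain ⟨y, hy⟩ := hc i hi
    have := mem_span_unif N u α f hN hf i₀ k h i
    rw [if_pos hi] at this
    rw [show b.repr x i = y * f by rw [mul_comm]; exact hy, mul_smul]
    exact Submodule.smul_of_tower_mem _ _ this
  · have := mem_span_unif N u α f hN hf i₀ k h i
    rw [if_neg hi, one_smul] at this
    exact Submodule.smul_of_tower_mem _ _ this

end Quot

end Groth.Agent.CyclicCover
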