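import Groth.Agent.CyclicCover.Criteria
import Groth.Agent.CyclicCover.Lattice
import Groth.Agent.CyclicCover.Etale
import Groth.Agent.S9246
import Mathlib.RingTheory.IntegralClosure.Algebra.Basic

/-! The normalised cyclic cover is regular and is the integral closure. -/

set_option autoImplicit false
universe u
open Polynomial

namespace Groth.Agent.CyclicCover

variable {B : Type u} [CommRing B] [IsDomain B] (N : ℕ) (u : Bˣ) (α : ℕ) (f : B)

theorem away_cover (hN : 0 < N) : IsLocalization.Away (algebraMap B (cover N u α f) f) (K N u α f) where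
  map_units := by
    rintro ⟨_, n, rfl⟩
    exact (map_pow (algebraMap (cover N u α f) (K N u α f)) _ n).symm ▸
      (IsUnit.of_mul_eq_one _ (F_mul_s N u α f)).pow n
  surj := fun z => by
    obtain ⟨⟨a, ⟨_, n, rfl⟩⟩, h⟩ := IsLocalization.surj (Submonoid.powers (algebraMap B (A' N u α f) f)) z
    refine ⟨⟨⟨_, algebraMap_A'_mem N u α f hN a⟩, ⟨_, n, rfl⟩⟩, ?_⟩
    refine Eq.trans ?_ h
    show z * algebraMap (cover N u α f) (K N u α f) (algebraMap B (cover N u α f) f ^ n) =
      z * algebraMap (A' N u α f) (K N u α f) (algebraMap B (A' N u α f) f ^ n)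
    rw [map_pow, map_pow, ← IsScalarTower.algebraMap_apply, ← IsScalarTower.algebraMap_apply]
  exists_of_eq := fun {x y} h => ⟨1, by simp [Subtype.ext h]⟩

theorem f_mem_nonZeroDivisors (hN : 0 < N) :
    algebraMap B (cover N u α f) f ∈ nonZeroDivisors (cover N u α f) := by
  have h : ∀ x : cover N u α f, algebraMap B (cover N u α f) f * x = 0 → x = 0 := fun x hx => by
    have h1 := congrArg Subtype.val hx
    apply Subtype.ext
    exact (IsUnit.of_mul_eq_one _ (F_mul_s N u α f)).mul_right_eq_zero.1 h1
  exact mem_nonZeroDivisors_iff.2 ⟨h, fun x hx => h x (by rwa [mul_comm])⟩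

theorem unif_pow (hN : 0 < N) (i₀ k : ℕ) (h : i₀ * α % N + k * N = Nat.gcd α N) :
    unif N u α f hN i₀ k ^ N = algebraMap B (cover N u α f) (f ^ Nat.gcd α N * (u : B) ^ i₀) := by
  apply Subtype.ext
  show (f ^ k • e N u α f i₀) ^ N = algebraMap B (K N u α f) _
  obtain ⟨c, hc, hc'⟩ := e_pow N u α f N i₀ hN
  have hc'' : c = i₀ * α % N := by
    rw [mul_assoc, Nat.mul_mod_right, add_zero, mul_comm c] at hc'
    exact Nat.eq_of_mul_eq_mul_left hN hc'
  have he : e N u α f (N * i₀) = algebraMap B _ ((u : B) ^ i₀) := by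
    rw [show N * i₀ = 0 + i₀ * N by ring, e_add_mul_N N u α f hN, e_zero, mul_one]
  rw [_root_.smul_pow, hc, he, Algebra.smul_def, F, hc'', map_mul, ← h, ← map_pow, ← mul_assoc, ← map_mul]
  congr 1
  congr 1
  ring

variable [IsNoetherianRing B]

theorem regular_cover (hN : 0 < N) (hNB : IsUnit (N : B)) (hf : f ≠ 0)
    (hreg : ∀ (P : Ideal B) [P.IsPrime], IsRegularLocalRing (Localization.AtPrime P))
    (hD : ∀ (P : Ideal (B ⧸ Ideal.span ({f} : Set B))) [P.IsPrime], IsRegularLocalRing (Localization.AtPrime P))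
    (Q : Ideal (cover N u α f)) [Q.IsPrime] : IsRegularLocalRing (Localization.AtPrime Q) := by
  by_cases hfQ : algebraMap B (cover N u α f) f ∈ Q
  · have hfu : ¬ IsUnit f := fun hu => Ideal.IsPrime.ne_top ‹_› (Ideal.eq_top_of_isUnit_mem _ hfQ (hu.map _))
    obtain ⟨i₀, k, h⟩ := exists_uniformiser N α hN
    have hd : 0 < Nat.gcd α N := Nat.gcd_pos_of_pos_right _ hN
    have hπ := unif_pow N u α f hN i₀ k h
    have := finite_cover N u α f hN
    have : IsNoetherianRing (cover N u α f) := IsNoetherianRing.of_finite B _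
    have hdB : IsUnit ((Nat.gcd α N : ℕ) : B ⧸ Ideal.span ({f} : Set B)) := by
      have hu := hNB.map (Ideal.Quotient.mk (Ideal.span ({f} : Set B)))
      rw [map_natCast, ← Nat.div_mul_cancel (Nat.gcd_dvd_right α N), Nat.cast_mul] at hu
      exact (IsUnit.mul_iff.1 hu).2
    have : Algebra.Etale (B ⧸ Ideal.span ({f} : Set B)) (Quot N u α f) :=
      etale_root (Units.map (Ideal.Quotient.mk (Ideal.span ({f} : Set B))).toMonoidHom u) _ hdB hd.ne'
    refine regular_atPrime_of_quotient (quot N u α f hN hf).toRingHom (quot_surjective N u α f hN hf) _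
      (ker_quot N u α f hN hf hfu i₀ k h) ?_ (fun q _ => ?_) Q ?_
    · have hm : unif N u α f hN i₀ k ^ N ∈ nonZeroDivisors (cover N u α f) := by
        rw [hπ, map_mul, map_pow]
        exact mul_mem (pow_mem (f_mem_nonZeroDivisors N u α f hN) _)
          (((u.isUnit.pow i₀).map _).mem_nonZeroDivisors)
      obtain ⟨n, hn⟩ := Nat.exists_eq_succ_of_ne_zero hN.ne'
      have hp : ∀ (x : cover N u α f) (m : ℕ), m = n + 1 → x ^ m = x ^ n * x := fun x m e => by rw [e, pow_succ]
      rw [hp _ N hn] at hm
      exact (mul_mem_nonZeroDivisors.1 hm).2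
    · exact (Groth.Agent.S9246.result (B ⧸ Ideal.span ({f} : Set B)) (Quot N u α f) q).1 (hD _)
    · apply Ideal.IsPrime.mem_of_pow_mem ‹_› N
      rw [hπ, map_mul, map_pow]
      exact Q.mul_mem_right _ (Ideal.pow_mem_of_mem _ hfQ _ hd)
  · have := away_cover N u α f hN
    have := etale_K N u α f hN hNB
    exact regular_atPrime_of_away (K := K N u α f) _
      (fun P _ => (Groth.Agent.S9246.result B (K N u α f) P).1 (hreg _)) Q hfQ

theorem isIntegralClosure_cover (hN : 0 < N) (hNB : IsUnit (N : B)) (hf : f ≠ 0)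
    (hreg : ∀ (P : Ideal B) [P.IsPrime], IsRegularLocalRing (Localization.AtPrime P))
    (hD : ∀ (P : Ideal (B ⧸ Ideal.span ({f} : Set B))) [P.IsPrime], IsRegularLocalRing (Localization.AtPrime P)) :
    IsIntegralClosure (cover N u α f) (A' N u α f) (K N u α f) where
  algebraMap_injective := Subtype.val_injective
  isIntegral_iff := fun {z} => by
    constructor
    · intro hz
      have := away_cover N u α f hN
      let φ : A' N u α f →+* cover N u α f :=
        (algebraMap (A' N u α f) (K N u α f)).codRestrict (cover N u α f) (algebraMap_A'_mem N u α f hN)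
      have hz' : IsIntegral (cover N u α f) z :=
        hz.map_of_comp_eq φ (RingHom.id _) (RingHom.ext fun _ => rfl)
      exact mem_range_of_isIntegral _ (f_mem_nonZeroDivisors N u α f hN)
        (fun Q _ => regular_cover N u α f hN hNB hf hreg hD Q) z hz'
    · rintro ⟨y, rfl⟩
      have := finite_cover N u α f hN
      have hy : IsIntegral B (algebraMap (cover N u α f) (K N u α f) y) :=
        (Algebra.IsIntegral.isIntegral (R := B) y).algebraMap
      exact hy.tower_top

end Groth.Agent.CyclicCover
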